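import Mathlib

/-!
# Fibre products of complete local rings over a common quotient

For surjections `π₁ : R₁ → S`, `π₂ : R₂ → S` of complete Noetherian local rings the fibre product is a
complete local ring with finitely generated maximal ideal, surjecting onto both factors.
-/

set_option autoImplicit false
set_option linter.style.haveILetI false

universe u

namespace Groth.Agent.CILib

open IsLocalRing

theorem exists_pullback_univ {R₁ R₂ S : Type u} [CommRing R₁] [CommRing R₂] [CommRing S]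
    [IsLocalRing R₁] [IsLocalRing R₂] [IsLocalRing S]
    [IsNoetherianRing R₁] [IsNoetherianRing R₂] [IsNoetherianRing S]
    [IsAdicComplete (maximalIdeal R₁) R₁] [IsAdicComplete (maximalIdeal R₂) R₂]
    (π₁ : R₁ →+* S) (hπ₁ : Function.Surjective π₁) (π₂ : R₂ →+* S) (hπ₂ : Function.Surjective π₂) :
    ∃ (P : Type u) (_ : CommRing P) (_ : IsLocalRing P) (_ : IsAdicComplete (maximalIdeal P) P),
      (maximalIdeal P).FG ∧ ∃ (p₁ : P →+* R₁) (p₂ : P →+* R₂),
        Function.Surjective p₁ ∧ Function.Surjective p₂ ∧ π₁.comp p₁ = π₂.comp p₂ ∧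
        (∀ (a : R₁) (b : R₂), π₁ a = π₂ b → ∃ x, p₁ x = a ∧ p₂ x = b) ∧
        ∀ x y, p₁ x = p₁ y → p₂ x = p₂ y → x = y := by
  classical
  haveI : IsLocalHom π₁ := IsLocalHom.of_surjective π₁ hπ₁
  haveI : IsLocalHom π₂ := IsLocalHom.of_surjective π₂ hπ₂
  let P : Subring (R₁ × R₂) := RingHom.eqLocus (π₁.comp (RingHom.fst R₁ R₂)) (π₂.comp (RingHom.snd R₁ R₂))
  have hP : ∀ x : R₁ × R₂, x ∈ P ↔ π₁ x.1 = π₂ x.2 := fun x => Iff.rfl
  let p₁ : P →+* R₁ := (RingHom.fst R₁ R₂).comp P.subtype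
  let p₂ : P →+* R₂ := (RingHom.snd R₁ R₂).comp P.subtype
  have hp₁ : Function.Surjective p₁ := fun a => by
    obtain ⟨b, hb⟩ := hπ₂ (π₁ a)
    exact ⟨⟨(a, b), hb.symm⟩, rfl⟩
  have hp₂ : Function.Surjective p₂ := fun b => by
    obtain ⟨a, ha⟩ := hπ₁ (π₂ b)
    exact ⟨⟨(a, b), ha⟩, rfl⟩
  have hu : ∀ x : P, IsUnit (p₁ x) → IsUnit x := by
    intro x hx
    have h2 : IsUnit (p₂ x) := by
      refine (isUnit_map_iff π₂ _).mp ?_
      rw [show π₂ (p₂ x) = π₁ (p₁ x) from ((hP x.1).mp x.2).symm]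
      exact hx.map π₁
    obtain ⟨u, hu⟩ := hx
    obtain ⟨v, hv⟩ := h2
    have hmem : ((↑u⁻¹ : R₁), (↑v⁻¹ : R₂)) ∈ P := by
      refine (hP _).mpr ((hu ▸ u.isUnit.map π₁).mul_left_cancel ?_)
      rw [← map_mul, show (p₁ x) * (↑u⁻¹ : R₁) = 1 by rw [← hu, Units.mul_inv], map_one,
        show π₁ (p₁ x) = π₂ (p₂ x) from (hP x.1).mp x.2, ← map_mul,
        show (p₂ x) * (↑v⁻¹ : R₂) = 1 by rw [← hv, Units.mul_inv], map_one]
    refine IsUnit.of_mul_eq_one ⟨_, hmem⟩ (Subtype.ext (Prod.ext ?_ ?_))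
    · show p₁ x * (↑u⁻¹ : R₁) = 1
      rw [← hu, Units.mul_inv]
    · show p₂ x * (↑v⁻¹ : R₂) = 1
      rw [← hv, Units.mul_inv]
  haveI : Nontrivial P := ⟨0, 1, fun h => zero_ne_one (α := R₁) (by rw [← map_zero p₁, h, map_one])⟩
  haveI hloc : IsLocalRing P := IsLocalRing.of_isUnit_or_isUnit_one_sub_self fun a => by
    rcases IsLocalRing.isUnit_or_isUnit_one_sub_self (p₁ a) with h | h
    · exact Or.inl (hu a h)
    · exact Or.inr (hu _ (by rwa [map_sub, map_one]))
  haveI : IsLocalHom p₁ := IsLocalHom.of_surjective p₁ hp₁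
  haveI : IsLocalHom p₂ := IsLocalHom.of_surjective p₂ hp₂
  have hm₁ : (maximalIdeal P).map p₁ = maximalIdeal R₁ := map_maximalIdeal_of_surjective p₁ hp₁
  have hm₂ : (maximalIdeal P).map p₂ = maximalIdeal R₂ := map_maximalIdeal_of_surjective p₂ hp₂
  have hlift₁ : ∀ (n : ℕ) (a : R₁), a ∈ maximalIdeal R₁ ^ n → ∃ y ∈ maximalIdeal P ^ n, p₁ y = a := by
    intro n a ha
    rw [← hm₁, ← Ideal.map_pow] at ha
    exact (Ideal.mem_map_iff_of_surjective p₁ hp₁).mp ha
  have hlift₂ : ∀ (n : ℕ) (b : R₂), b ∈ maximalIdeal R₂ ^ n → ∃ y ∈ maximalIdeal P ^ n, p₂ y = b := by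
    intro n b hb
    rw [← hm₂, ← Ideal.map_pow] at hb
    exact (Ideal.mem_map_iff_of_surjective p₂ hp₂).mp hb
  let K := RingHom.ker π₂
  -- `0 × K`
  have hK : ∀ k ∈ K, ((0 : R₁), k) ∈ P := fun k hk => (hP _).mpr (by
    show π₁ 0 = π₂ k
    rw [map_zero, RingHom.mem_ker.mp hk])
  -- comparison of topologies
  obtain ⟨c, hc⟩ := Ideal.exists_pow_inf_eq_pow_smul (maximalIdeal R₂) (K : Submodule R₂ R₂)
  have key : ∀ (n : ℕ) (x : P), p₁ x ∈ maximalIdeal R₁ ^ (n + c) → p₂ x ∈ maximalIdeal R₂ ^ (n + c) →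
      x ∈ maximalIdeal P ^ n := by
    intro n x h1 h2
    obtain ⟨y, hy, hy1⟩ := hlift₁ (n + c) (p₁ x) h1
    have hy2 : p₂ y ∈ maximalIdeal R₂ ^ (n + c) := by
      rw [← hm₂, ← Ideal.map_pow]
      exact Ideal.mem_map_of_mem _ hy
    have hwK : p₂ x - p₂ y ∈ K := by
      rw [RingHom.mem_ker, map_sub, show π₂ (p₂ x) = π₁ (p₁ x) from ((hP x.1).mp x.2).symm,
        show π₂ (p₂ y) = π₁ (p₁ y) from ((hP y.1).mp y.2).symm, hy1, sub_self]
    have hmem : p₂ x - p₂ y ∈ (maximalIdeal R₂ ^ (n + c) • ⊤ ⊓ K : Submodule R₂ R₂) := by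
      refine ⟨?_, hwK⟩
      show p₂ x - p₂ y ∈ (maximalIdeal R₂ ^ (n + c) • ⊤ : Submodule R₂ R₂)
      rw [smul_eq_mul, Ideal.mul_top]
      exact sub_mem h2 hy2
    rw [hc (n + c) (Nat.le_add_left c n), Nat.add_sub_cancel] at hmem
    have hw : p₂ x - p₂ y ∈ maximalIdeal R₂ ^ n * K := by
      rw [← smul_eq_mul]
      exact Submodule.smul_mono le_rfl inf_le_right hmem
    have hz : ∀ w ∈ maximalIdeal R₂ ^ n * K, ∃ z ∈ maximalIdeal P ^ n, p₁ z = 0 ∧ p₂ z = w := by
      intro w hw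
      induction hw using Submodule.mul_induction_on' with
      | mem_mul_mem a ha b hb =>
        obtain ⟨a', ha', ha2⟩ := hlift₂ n a ha
        refine ⟨a' * ⟨_, hK b hb⟩, Ideal.mul_mem_right _ _ ha', ?_, ?_⟩
        · show p₁ a' * 0 = 0
          rw [mul_zero]
        · show p₂ a' * b = a * b
          rw [ha2]
      | add u _ v _ hu hv =>
        obtain ⟨z, hz, hz1, hz2⟩ := hu
        obtain ⟨z', hz', hz1', hz2'⟩ := hv
        exact ⟨z + z', add_mem hz hz', by rw [map_add, hz1, hz1', add_zero], by rw [map_add, hz2, hz2']⟩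
    obtain ⟨z, hz, hz1, hz2⟩ := hz _ hw
    have hxe : x = y + z := Subtype.ext (Prod.ext
      (by show p₁ x = p₁ y + p₁ z; rw [hy1, hz1, add_zero])
      (by show p₂ x = p₂ y + p₂ z; rw [hz2, add_sub_cancel]))
    rw [hxe]
    exact add_mem (Ideal.pow_le_pow_right (Nat.le_add_right n c) hy) hz
  have hdown : ∀ (n : ℕ) (x : P), x ∈ maximalIdeal P ^ n →
      p₁ x ∈ maximalIdeal R₁ ^ n ∧ p₂ x ∈ maximalIdeal R₂ ^ n := by
    intro n x hx
    constructor
    · rw [← hm₁, ← Ideal.map_pow]; exact Ideal.mem_map_of_mem _ hx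
    · rw [← hm₂, ← Ideal.map_pow]; exact Ideal.mem_map_of_mem _ hx
  have hsm : ∀ {R : Type u} [CommRing R] (I : Ideal R) (x y : R),
      x ≡ y [SMOD (I • ⊤ : Submodule R R)] ↔ x - y ∈ I := fun I x y => by
    rw [SModEq.sub_mem, smul_eq_mul, Ideal.mul_top]
  haveI hcomp : IsAdicComplete (maximalIdeal P) P :=
    { haus' := fun x hx => by
        have h : ∀ n, x ∈ maximalIdeal P ^ n := fun n => by simpa using (hsm _ _ _).mp (hx n)
        refine Subtype.ext (Prod.ext ?_ ?_)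
        · exact IsHausdorff.haus' (I := maximalIdeal R₁) (p₁ x) fun n =>
            (hsm _ _ _).mpr (by simpa using (hdown n x (h n)).1)
        · exact IsHausdorff.haus' (I := maximalIdeal R₂) (p₂ x) fun n =>
            (hsm _ _ _).mpr (by simpa using (hdown n x (h n)).2)
      prec' := fun f hf => by
        have hf' : ∀ {m n}, m ≤ n → f m - f n ∈ maximalIdeal P ^ m := fun h => (hsm _ _ _).mp (hf h)
        obtain ⟨L₁, hL₁⟩ := IsPrecomplete.prec' (I := maximalIdeal R₁) (fun n => p₁ (f n)) fun {m n} h =>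
          (hsm _ _ _).mpr (by rw [← map_sub]; exact (hdown m _ (hf' h)).1)
        obtain ⟨L₂, hL₂⟩ := IsPrecomplete.prec' (I := maximalIdeal R₂) (fun n => p₂ (f n)) fun {m n} h =>
          (hsm _ _ _).mpr (by rw [← map_sub]; exact (hdown m _ (hf' h)).2)
        have hL : (L₁, L₂) ∈ P := by
          refine (hP _).mpr (sub_eq_zero.mp ?_)
          rw [← Ideal.mem_bot, ← Ideal.iInf_pow_eq_bot_of_isLocalRing (maximalIdeal S)
            (maximalIdeal.isMaximal S).ne_top, Submodule.mem_iInf]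
          intro n
          have h1 : π₁ (p₁ (f n) - L₁) ∈ maximalIdeal S ^ n := by
            refine Ideal.pow_right_mono (IsLocalRing.map_maximalIdeal_le π₁) n ?_
            rw [← Ideal.map_pow]
            exact Ideal.mem_map_of_mem _ ((hsm _ _ _).mp (hL₁ n))
          have h2 : π₂ (p₂ (f n) - L₂) ∈ maximalIdeal S ^ n := by
            refine Ideal.pow_right_mono (IsLocalRing.map_maximalIdeal_le π₂) n ?_
            rw [← Ideal.map_pow]
            exact Ideal.mem_map_of_mem _ ((hsm _ _ _).mp (hL₂ n))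
          have h3 := sub_mem h2 h1
          rw [map_sub, map_sub, show π₁ (p₁ (f n)) = π₂ (p₂ (f n)) from (hP (f n).1).mp (f n).2] at h3
          simpa using h3
        refine ⟨⟨(L₁, L₂), hL⟩, fun n => (hsm _ _ _).mpr ?_⟩
        have hs : f n - ⟨(L₁, L₂), hL⟩ = (f n - f (n + c)) + (f (n + c) - ⟨(L₁, L₂), hL⟩) := by abel
        rw [hs]
        refine add_mem (hf' (Nat.le_add_right n c)) (key n _ ?_ ?_)
        · rw [map_sub]; exact (hsm _ _ _).mp (hL₁ (n + c))
        · rw [map_sub]; exact (hsm _ _ _).mp (hL₂ (n + c)) }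
  have hfg : (maximalIdeal P).FG := by
    obtain ⟨s, hs⟩ := IsNoetherian.noetherian (maximalIdeal R₁)
    obtain ⟨t, ht⟩ := IsNoetherian.noetherian (K : Submodule R₂ R₂)
    let g : R₁ → P := Function.surjInv hp₁
    have htK : ∀ b ∈ t, b ∈ K := fun b hb => (show (b : R₂) ∈ (K : Submodule R₂ R₂) from ht ▸ Submodule.subset_span hb)
    let u : Finset P := s.image g ∪ t.attach.image fun b => ⟨_, hK b.1 (htK b.1 b.2)⟩
    refine ⟨u, le_antisymm (Ideal.span_le.mpr ?_) fun x hx => ?_⟩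
    · intro x hx
      simp only [u, Finset.coe_union, Finset.coe_image, Set.mem_union, Set.mem_image] at hx
      rcases hx with ⟨a, ha, rfl⟩ | ⟨b, -, rfl⟩
      · intro hun
        have : IsUnit a := by simpa [g, Function.surjInv_eq hp₁] using hun.map p₁
        exact (show a ∈ maximalIdeal R₁ from hs ▸ Submodule.subset_span ha) this
      · intro hun
        exact not_isUnit_zero (M₀ := R₁) (hun.map p₁)
    · have h1 : p₁ x ∈ (Ideal.span (g '' (s : Set R₁))).map p₁ := by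
        rw [Ideal.map_span, ← Set.image_comp, show p₁ ∘ g = id from funext (Function.surjInv_eq hp₁), Set.image_id]
        exact (show Ideal.span (s : Set R₁) = maximalIdeal R₁ from hs).ge (map_nonunit p₁ x hx)
      obtain ⟨y, hy, hy1⟩ := (Ideal.mem_map_iff_of_surjective p₁ hp₁).mp h1
      have hwK : p₂ x - p₂ y ∈ (K : Submodule R₂ R₂) := by
        show p₂ x - p₂ y ∈ K
        rw [RingHom.mem_ker, map_sub, show π₂ (p₂ x) = π₁ (p₁ x) from ((hP x.1).mp x.2).symm,
          show π₂ (p₂ y) = π₁ (p₁ y) from ((hP y.1).mp y.2).symm, hy1, sub_self]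
      rw [← ht] at hwK
      have hz : ∀ w ∈ Submodule.span R₂ (t : Set R₂), ∃ z ∈ Ideal.span (u : Set P), p₁ z = 0 ∧ p₂ z = w := by
        intro w hw
        induction hw using Submodule.span_induction with
        | mem b hb =>
          refine ⟨⟨_, hK b (htK b hb)⟩, Ideal.subset_span ?_, rfl, rfl⟩
          simp only [u, Finset.coe_union, Finset.coe_image, Set.mem_union, Set.mem_image]
          exact Or.inr ⟨⟨b, hb⟩, by simp, rfl⟩
        | zero => exact ⟨0, zero_mem _, map_zero _, map_zero _⟩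
        | add a b _ _ ha hb =>
          obtain ⟨z, hz, hz1, hz2⟩ := ha
          obtain ⟨z', hz', hz1', hz2'⟩ := hb
          exact ⟨z + z', add_mem hz hz', by rw [map_add, hz1, hz1', add_zero], by rw [map_add, hz2, hz2']⟩
        | smul a b _ hb =>
          obtain ⟨z, hz, hz1, hz2⟩ := hb
          obtain ⟨a', ha'⟩ := hp₂ a
          exact ⟨a' * z, Ideal.mul_mem_left _ _ hz, by rw [map_mul, hz1, mul_zero],
            by rw [map_mul, hz2, ha', smul_eq_mul]⟩
      obtain ⟨z, hz, hz1, hz2⟩ := hz _ hwK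
      have hxe : x = y + z := Subtype.ext (Prod.ext
        (by show p₁ x = p₁ y + p₁ z; rw [hy1, hz1, add_zero])
        (by show p₂ x = p₂ y + p₂ z; rw [hz2, add_sub_cancel]))
      rw [hxe]
      refine add_mem (Ideal.span_mono ?_ hy) hz
      simp only [u, Finset.coe_union, Finset.coe_image]
      exact Set.subset_union_left
  exact ⟨P, inferInstance, hloc, hcomp, hfg, p₁, p₂, hp₁, hp₂, RingHom.ext fun x => (hP x.1).mp x.2,
    fun a b h => ⟨⟨(a, b), (hP _).mpr h⟩, rfl, rfl⟩, fun x y h1 h2 => Subtype.ext (Prod.ext h1 h2)⟩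

theorem exists_pullback {R₁ R₂ S : Type u} [CommRing R₁] [CommRing R₂] [CommRing S]
    [IsLocalRing R₁] [IsLocalRing R₂] [IsLocalRing S]
    [IsNoetherianRing R₁] [IsNoetherianRing R₂] [IsNoetherianRing S]
    [IsAdicComplete (maximalIdeal R₁) R₁] [IsAdicComplete (maximalIdeal R₂) R₂]
    (π₁ : R₁ →+* S) (hπ₁ : Function.Surjective π₁) (π₂ : R₂ →+* S) (hπ₂ : Function.Surjective π₂) :
    ∃ (P : Type u) (_ : CommRing P) (_ : IsLocalRing P) (_ : IsAdicComplete (maximalIdeal P) P),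
      (maximalIdeal P).FG ∧ ∃ (p₁ : P →+* R₁) (p₂ : P →+* R₂),
        Function.Surjective p₁ ∧ Function.Surjective p₂ ∧ π₁.comp p₁ = π₂.comp p₂ := by
  obtain ⟨P, i₁, i₂, i₃, hfg, p₁, p₂, h₁, h₂, hc, -, -⟩ := exists_pullback_univ π₁ hπ₁ π₂ hπ₂
  exact ⟨P, i₁, i₂, i₃, hfg, p₁, p₂, h₁, h₂, hc⟩

end Groth.Agent.CILib
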