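import Mathlib
import Groth.Prelude.Def_Pi1
import Groth.Agent.CILib.Pullback
import Groth.Agent.Synt29.CIKernel
import Groth.Agent.CohenLib.Structure
import Groth.Agent.CohenLib.PowerSeries
import Groth.Agent.Adic7.Lift
import Groth.Agent.Adic7.Basic
import Groth.Agent.LC.CanonComplete

/-!
# Complete intersection local rings: independence of the presentation

The main result is `isCI_iff_ciKer`: for a surjection `π : R → A` from a regular local ring, `A` is a
complete intersection iff the kernel of `π` is generated by `dim R - dim A` elements.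
-/

set_option autoImplicit false
set_option linter.style.haveILetI false

universe u

namespace Groth.Agent.CILib

open IsLocalRing RingTheory.Sequence Groth.Agent.Synt29

/-- Quotients of complete Noetherian local rings are complete. -/
theorem isAdicComplete_quotient {R : Type u} [CommRing R] [IsLocalRing R] [IsNoetherianRing R]
    [IsAdicComplete (maximalIdeal R) R] (I : Ideal R) [IsLocalRing (R ⧸ I)] :
    IsAdicComplete (maximalIdeal (R ⧸ I)) (R ⧸ I) := by
  haveI : IsAdicComplete (maximalIdeal R) (R ⧸ I) := Adic7.isAdicComplete_of_finite _ _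
  rw [← map_maximalIdeal_of_surjective (algebraMap R (R ⧸ I)) Ideal.Quotient.mk_surjective]
  exact (IsAdicComplete.map_algebraMap_iff (S := R ⧸ I) (maximalIdeal R) (R ⧸ I)).mpr ‹_›

theorem ringKrullDim_adicCompletion (R : Type u) [CommRing R] [IsLocalRing R] [IsNoetherianRing R] :
    ringKrullDim (AdicCompletion (maximalIdeal R) R) = ringKrullDim R := by
  haveI := LC.Canon.isNoetherianRing_completion (R := R)
  haveI : IsLocalHom (algebraMap R (AdicCompletion (maximalIdeal R) R)) :=
    AdicCompletion.algebraMap_isLocalHom_of_fg (IsNoetherian.noetherian _)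
  exact Hensel.ringKrullDim_eq_of_flat_of_map_maximalIdeal_eq (R := R)
    (S := AdicCompletion (maximalIdeal R) R) (AdicCompletion.maximalIdeal_eq_map (R := R)).symm

theorem isRegularLocalRing_adicCompletion (R : Type u) [CommRing R] [IsRegularLocalRing R] :
    IsRegularLocalRing (AdicCompletion (maximalIdeal R) R) := by
  haveI := LC.Canon.isNoetherianRing_completion (R := R)
  refine IsRegularLocalRing.of_spanFinrank_maximalIdeal_le _ ?_
  rw [ringKrullDim_adicCompletion, ← (isRegularLocalRing_iff R).1 ‹_›, AdicCompletion.maximalIdeal_eq_map (R := R)]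
  exact_mod_cast Ideal.spanFinrank_map_le_of_fg _ (IsNoetherian.noetherian _)

theorem isAdicComplete_adicCompletion (R : Type u) [CommRing R] [IsLocalRing R] [IsNoetherianRing R] :
    IsAdicComplete (maximalIdeal (AdicCompletion (maximalIdeal R) R)) (AdicCompletion (maximalIdeal R) R) := by
  rw [AdicCompletion.maximalIdeal_eq_map (R := R)]
  exact Adic7.isAdicComplete_completion _ (IsNoetherian.noetherian _)

/-- A surjection of Noetherian local rings completes to a surjection whose kernel is the extended kernel. -/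
theorem exists_completion_surjection {R A : Type u} [CommRing R] [IsLocalRing R] [IsNoetherianRing R]
    [CommRing A] [IsLocalRing A] [IsNoetherianRing A] (π : R →+* A) (hπ : Function.Surjective π) :
    ∃ τ : AdicCompletion (maximalIdeal R) R →+* AdicCompletion (maximalIdeal A) A,
      Function.Surjective τ ∧
      RingHom.ker τ = (RingHom.ker π).map (algebraMap R (AdicCompletion (maximalIdeal R) R)) := by
  classical
  haveI : IsLocalHom π := IsLocalHom.of_surjective π hπ
  letI : Algebra R A := π.toAlgebra
  let Rh := AdicCompletion (maximalIdeal R) R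
  let Ah := AdicCompletion (maximalIdeal A) A
  haveI := LC.Canon.isNoetherianRing_completion (R := R)
  haveI := isAdicComplete_adicCompletion R
  haveI := isAdicComplete_adicCompletion A
  let J : Ideal Rh := (RingHom.ker π).map (algebraMap R Rh)
  have hJm : J ≤ maximalIdeal Rh := by
    rw [AdicCompletion.maximalIdeal_eq_map (R := R)]
    exact Ideal.map_mono (le_maximalIdeal (RingHom.ker_ne_top π))
  haveI : Nontrivial (Rh ⧸ J) := Ideal.Quotient.nontrivial_iff.mpr
    (fun h => (maximalIdeal.isMaximal Rh).ne_top (top_le_iff.mp (h ▸ hJm)))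
  haveI : IsLocalRing (Rh ⧸ J) := IsLocalRing.of_surjective' (Ideal.Quotient.mk J) Ideal.Quotient.mk_surjective
  haveI := isAdicComplete_quotient J
  have hmA : maximalIdeal A = (maximalIdeal R).map (algebraMap R A) :=
    (map_maximalIdeal_of_surjective π hπ).symm
  have hmRh : (maximalIdeal R).map (algebraMap R Rh) = maximalIdeal Rh :=
    (AdicCompletion.maximalIdeal_eq_map (R := R)).symm
  have hmAh : (maximalIdeal R).map (algebraMap R Ah) ≤ maximalIdeal Ah := by
    rw [IsScalarTower.algebraMap_eq R A Ah, ← Ideal.map_map, ← hmA]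
    exact (AdicCompletion.maximalIdeal_eq_map (R := A)).ge
  have hmC : (maximalIdeal R).map (algebraMap R (Rh ⧸ J)) ≤ maximalIdeal (Rh ⧸ J) := by
    rw [IsScalarTower.algebraMap_eq R Rh (Rh ⧸ J), ← Ideal.map_map, hmRh,
      map_maximalIdeal_of_surjective (algebraMap Rh (Rh ⧸ J)) Ideal.Quotient.mk_surjective]
  -- `R̂ → Â`
  obtain ⟨F, -⟩ := Adic7.exists_lift_completion (R := R) (S := R) (B := Ah) (maximalIdeal R)
    (maximalIdeal Ah) (Algebra.ofId R Ah) hmAh
  have hFJ : ∀ x ∈ J, F x = 0 := by
    refine fun x hx => (show J ≤ RingHom.ker F.toRingHom from Ideal.map_le_iff_le_comap.mpr fun i hi => ?_) hx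
    show F (algebraMap R Rh i) = 0
    rw [AlgHom.commutes, IsScalarTower.algebraMap_apply R A Ah, show algebraMap R A i = 0 from hi, map_zero]
  let φ : (Rh ⧸ J) →ₐ[R] Ah := Ideal.Quotient.liftₐ J F hFJ
  -- `Â → R̂ / J`
  let gA : (R ⧸ RingHom.ker π) →+* Rh ⧸ J := Ideal.quotientMap J (algebraMap R Rh) (Ideal.le_comap_map)
  let eA := RingHom.quotientKerEquivOfSurjective hπ
  let f : A →ₐ[R] Rh ⧸ J :=
    { gA.comp eA.symm.toRingHom with
      commutes' := fun r => by
        show gA (eA.symm (π r)) = _
        rw [show π r = eA (Ideal.Quotient.mk _ r) from rfl, RingEquiv.symm_apply_apply]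
        rfl }
  obtain ⟨ψ, -⟩ := Adic7.exists_lift_completion (R := R) (S := A) (B := Rh ⧸ J) (maximalIdeal A)
    (maximalIdeal (Rh ⧸ J)) f (by
      rw [hmA]
      show Ideal.map (f : A →+* Rh ⧸ J) _ ≤ _
      rw [Ideal.map_map, show (f : A →+* Rh ⧸ J).comp (algebraMap R A) = algebraMap R (Rh ⧸ J) from f.comp_algebraMap]
      exact hmC)
  have hmap : ∀ {B : Type u} [CommRing B] [Algebra R B] (G : Ah →ₐ[R] B),
      ((maximalIdeal A).map (algebraMap A Ah)).map G = (maximalIdeal R).map (algebraMap R B) := by
    intro B _ _ G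
    have h0 : (maximalIdeal A).map (algebraMap A Ah) = (maximalIdeal R).map (algebraMap R Ah) :=
      (congrArg (fun I => Ideal.map (algebraMap A Ah) I) hmA).trans
        ((Ideal.map_map _ _).trans (by rw [← IsScalarTower.algebraMap_eq R A Ah]))
    rw [h0]
    show Ideal.map (G : Ah →+* B) _ = _
    rw [Ideal.map_map]
    congr 1
    exact G.comp_algebraMap
  have hmap' : ∀ {B : Type u} [CommRing B] [Algebra R B] (G : Rh →ₐ[R] B),
      ((maximalIdeal R).map (algebraMap R Rh)).map G = (maximalIdeal R).map (algebraMap R B) := by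
    intro B _ _ G
    show Ideal.map (G : Rh →+* B) _ = _
    rw [Ideal.map_map]
    congr 1
    exact G.comp_algebraMap
  have h1 : φ.comp ψ = AlgHom.id R Ah := by
    refine Adic7.algHom_ext_completion (R := R) (S := A) (maximalIdeal A) (IsNoetherian.noetherian _)
      (maximalIdeal Ah) _ _ ((hmap _).trans_le hmAh) ((hmap _).trans_le hmAh) fun s => ?_
    obtain ⟨r, rfl⟩ := hπ s
    rw [show π r = algebraMap R A r from rfl, ← IsScalarTower.algebraMap_apply R A Ah, AlgHom.commutes,
      AlgHom.commutes]
  have h2 : (ψ.comp φ).comp (Ideal.Quotient.mkₐ R J) = Ideal.Quotient.mkₐ R J := by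
    refine Adic7.algHom_ext_completion (R := R) (S := R) (maximalIdeal R) (IsNoetherian.noetherian _)
      (maximalIdeal (Rh ⧸ J)) _ _ ((hmap' _).trans_le hmC) ((hmap' _).trans_le hmC) fun s => ?_
    rw [AlgHom.commutes, AlgHom.commutes]
  refine ⟨F.toRingHom, fun y => ?_, le_antisymm (fun x hx => ?_) fun x hx => hFJ x hx⟩
  · obtain ⟨x, hx⟩ := Ideal.Quotient.mk_surjective (ψ y)
    refine ⟨x, ?_⟩
    have := DFunLike.congr_fun h1 y
    rw [AlgHom.comp_apply, ← hx] at this
    exact this
  · have := DFunLike.congr_fun h2 x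
    simp only [AlgHom.comp_apply, Ideal.Quotient.mkₐ_eq_mk] at this
    rw [show φ (Ideal.Quotient.mk J x) = F x from rfl, show F x = 0 from hx, map_zero] at this
    exact Ideal.Quotient.eq_zero_iff_mem.mp this.symm

/-- Generators of the extension of an ideal to the completion descend. -/
theorem exists_generators_of_completion {R : Type u} [CommRing R] [IsLocalRing R] [IsNoetherianRing R]
    (I : Ideal R) {r : ℕ} (k : Fin r → AdicCompletion (maximalIdeal R) R)
    (hk : I.map (algebraMap R (AdicCompletion (maximalIdeal R) R)) = Ideal.span (Set.range k)) :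
    ∃ k' : Fin r → R, I = Ideal.span (Set.range k') := by
  let Rh := AdicCompletion (maximalIdeal R) R
  haveI := LC.Canon.isNoetherianRing_completion (R := R)
  haveI := LC.Canon.faithfullyFlat_completion (R := R)
  obtain ⟨n, g, hg⟩ := Submodule.fg_iff_exists_fin_generating_family.1 (IsNoetherian.noetherian I)
  have hgI : ∀ j, g j ∈ I := fun j => hg ▸ Submodule.subset_span ⟨j, rfl⟩
  have hI : I.map (algebraMap R Rh) = Ideal.span (Set.range fun j => algebraMap R Rh (g j)) := by
    rw [← hg, show Submodule.span R (Set.range g) = Ideal.span (Set.range g) from rfl, Ideal.map_span, ← Set.range_comp]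
    rfl
  have hc : ∀ i, ∃ c : Fin n → Rh, ∑ j, c j * algebraMap R Rh (g j) = k i := fun i =>
    Ideal.mem_span_range_iff_exists_fun.1 (hI ▸ hk.symm ▸ Ideal.subset_span ⟨i, rfl⟩)
  choose c hc using hc
  choose a ha using fun i j => Adic7.exists_sub_algebraMap_mem (maximalIdeal R) (IsNoetherian.noetherian _) (c i j) 1
  refine ⟨fun i => ∑ j, a i j * g j, ?_⟩
  set I' := Ideal.span (Set.range fun i => ∑ j, a i j * g j) with hI'
  have hI'I : I' ≤ I := Ideal.span_le.mpr (by
    rintro _ ⟨i, rfl⟩
    exact Ideal.sum_mem _ fun j _ => I.mul_mem_left _ (hgI j))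
  refine le_antisymm ?_ hI'I
  have hle : I.map (algebraMap R Rh) ≤ I'.map (algebraMap R Rh) ⊔ maximalIdeal Rh • I.map (algebraMap R Rh) := by
    conv_lhs => rw [hk]
    rw [Ideal.span_le]
    rintro _ ⟨i, rfl⟩
    have h1 : k i = algebraMap R Rh (∑ j, a i j * g j) +
        ∑ j, (c i j - algebraMap R Rh (a i j)) * algebraMap R Rh (g j) := by
      rw [map_sum, ← Finset.sum_add_distrib, ← hc i]
      exact Finset.sum_congr rfl fun j _ => by rw [map_mul]; ring
    rw [SetLike.mem_coe, h1]
    refine Submodule.add_mem_sup (Ideal.mem_map_of_mem _ (Ideal.subset_span ⟨i, rfl⟩)) ?_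
    refine Submodule.sum_mem _ fun j _ => ?_
    have := ha i j
    rw [pow_one, ← AdicCompletion.maximalIdeal_eq_map (R := R)] at this
    exact Ideal.mul_mem_mul this (Ideal.mem_map_of_mem _ (hgI j))
  have := Submodule.le_of_le_smul_of_le_jacobson_bot (IsNoetherian.noetherian _)
    (maximalIdeal_le_jacobson _) hle
  rw [← Ideal.comap_map_eq_self_of_faithfullyFlat (B := Rh) I']
  exact fun x hx => this (Ideal.mem_map_of_mem _ hx)

/-- `CIKer` of the completion of a surjection. -/
theorem ciKer_completion_iff {R A : Type u} [CommRing R] [IsLocalRing R] [IsNoetherianRing R]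
    [CommRing A] [IsLocalRing A] [IsNoetherianRing A] (π : R →+* A)
    (τ : AdicCompletion (maximalIdeal R) R →+* AdicCompletion (maximalIdeal A) A)
    (hker : RingHom.ker τ = (RingHom.ker π).map (algebraMap R (AdicCompletion (maximalIdeal R) R))) :
    CIKer τ ↔ CIKer π := by
  constructor
  · rintro ⟨r, k, hk, hd⟩
    rw [ringKrullDim_adicCompletion, ringKrullDim_adicCompletion] at hd
    obtain ⟨k', hk'⟩ := exists_generators_of_completion (RingHom.ker π) k (hker ▸ hk)
    exact ⟨r, k', hk', hd⟩
  · rintro ⟨r, k, hk, hd⟩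
    refine ⟨r, fun i => algebraMap R _ (k i), ?_, by rw [ringKrullDim_adicCompletion, ringKrullDim_adicCompletion]; exact hd⟩
    rw [hker, hk, Ideal.map_span, ← Set.range_comp]
    rfl

theorem ciKer_postcomp_equiv {R S S' : Type u} [CommRing R] [CommRing S] [CommRing S'] (π : R →+* S) (e : S ≃+* S') :
    CIKer (e.toRingHom.comp π) ↔ CIKer π := by
  have hk : RingHom.ker (e.toRingHom.comp π) = RingHom.ker π := by
    ext x
    simp [RingHom.mem_ker]
  simp only [CIKer, hk, ringKrullDim_eq_of_ringEquiv e]

/-- For complete local rings `CIKer` does not depend on the regular presentation. -/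
theorem ciKer_indep {R₁ R₂ S : Type u} [CommRing R₁] [CommRing R₂] [CommRing S]
    [IsRegularLocalRing R₁] [IsRegularLocalRing R₂] [IsLocalRing S] [IsNoetherianRing S]
    [IsAdicComplete (maximalIdeal R₁) R₁] [IsAdicComplete (maximalIdeal R₂) R₂]
    (π₁ : R₁ →+* S) (hπ₁ : Function.Surjective π₁) (π₂ : R₂ →+* S) (hπ₂ : Function.Surjective π₂) :
    CIKer π₁ ↔ CIKer π₂ := by
  obtain ⟨P, _, _, _, hfg, p₁, p₂, hp₁, hp₂, hcomp⟩ := exists_pullback π₁ hπ₁ π₂ hπ₂
  obtain ⟨Λ, _, n, g, hΛ, hg⟩ := CohenLib.exists_surjective P hfg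
  obtain ⟨_, hreg, -⟩ := CohenLib.isRegular_complete_mvPowerSeries hΛ n
  haveI := hreg
  rw [← ciKer_comp_iff (p₁.comp g) (hp₁.comp hg) π₁ hπ₁, ← ciKer_comp_iff (p₂.comp g) (hp₂.comp hg) π₂ hπ₂,
    ← RingHom.comp_assoc, ← RingHom.comp_assoc, hcomp]

/-- The complete intersection property read on any presentation by a regular local ring. -/
theorem isCI_iff_ciKer {R A : Type u} [CommRing R] [IsRegularLocalRing R] [CommRing A] [IsLocalRing A]
    (π : R →+* A) (hπ : Function.Surjective π) :
    Pi1.IsCompleteIntersection A ↔ CIKer π := by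
  haveI : IsNoetherianRing A := isNoetherianRing_of_surjective R A π hπ
  obtain ⟨τ, hτ, hker⟩ := exists_completion_surjection π hπ
  rw [← ciKer_completion_iff π τ hker]
  haveI := isRegularLocalRing_adicCompletion R
  haveI := isAdicComplete_adicCompletion R
  haveI := LC.Canon.isNoetherianRing_completion (R := A)
  haveI := isAdicComplete_adicCompletion A
  constructor
  · rintro ⟨B, _, _, rs, -, hreg, ⟨e⟩⟩
    let σ : B →+* AdicCompletion (maximalIdeal A) A := e.symm.toRingHom.comp (Ideal.Quotient.mk _)
    have hσ : Function.Surjective σ := e.symm.surjective.comp Ideal.Quotient.mk_surjective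
    have hσk : RingHom.ker σ = Ideal.ofList rs := by
      ext x
      rw [RingHom.mem_ker]
      show e.symm (Ideal.Quotient.mk _ x) = 0 ↔ _
      rw [map_eq_zero_iff e.symm e.symm.injective, Ideal.Quotient.eq_zero_iff_mem]
    have hci : CIKer σ := (ciKer_iff_regular σ hσ).mpr ⟨rs, hreg, hσk⟩
    obtain ⟨σh, hσh, hσhk⟩ := exists_completion_surjection σ hσ
    haveI := isRegularLocalRing_adicCompletion B
    haveI := isAdicComplete_adicCompletion B
    let e' : AdicCompletion (maximalIdeal A) A ≃+*
        AdicCompletion (maximalIdeal (AdicCompletion (maximalIdeal A) A)) (AdicCompletion (maximalIdeal A) A) :=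
      RingEquiv.ofBijective (algebraMap _ _) (AdicCompletion.of_bijective _ _)
    have h1 := (ciKer_completion_iff σ σh hσhk).mpr hci
    rw [← ciKer_postcomp_equiv σh e'.symm] at h1
    exact (ciKer_indep τ hτ (e'.symm.toRingHom.comp σh) (e'.symm.surjective.comp hσh)).mpr h1
  · intro h
    obtain ⟨rs, hreg, hk⟩ := (ciKer_iff_regular τ hτ).mp h
    exact ⟨_, inferInstance, inferInstance, rs,
      fun r hr => ker_le_maximalIdeal τ (hk ▸ Ideal.subset_span hr), hreg,
      ⟨(RingHom.quotientKerEquivOfSurjective hτ).symm.trans (Ideal.quotEquivOfEq hk)⟩⟩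

/-- A quotient of a regular local ring is a complete intersection iff the ideal is generated by a regular sequence. -/
theorem isCI_iff_regular {R A : Type u} [CommRing R] [IsRegularLocalRing R] [CommRing A] [IsLocalRing A]
    (π : R →+* A) (hπ : Function.Surjective π) :
    Pi1.IsCompleteIntersection A ↔ ∃ rs : List R, IsRegular R rs ∧ RingHom.ker π = Ideal.ofList rs :=
  (isCI_iff_ciKer π hπ).trans (ciKer_iff_regular π hπ)

end Groth.Agent.CILib
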